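import Mathlib
import Cfsg.Prelude

set_option autoImplicit false

/-! Abstract lemmas: a chain of subgroups each normalized by the next generator whose square lies
in it; conjugacy classes and centralizers; a subgroup of order nine from two commuting elements of
order three; the outer automorphism group of isomorphic groups. -/

namespace Cfsg.Agent.Helper9.HeO

section chain

variable {X : Type*} [Group X]

/-- when an element normalizes a subgroup given by generators and its square lies in it, the
subgroup generated by both consists of the subgroup and one coset. -/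
theorem mem_or_mul_of_closure_insert (T : Set X) (g : X)
    (hconj : ∀ t ∈ T, g * t * g⁻¹ ∈ Subgroup.closure T) (hsq : g * g ∈ Subgroup.closure T)
    {x : X} (hx : x ∈ Subgroup.closure (insert g T)) :
    x ∈ Subgroup.closure T ∨ ∃ y ∈ Subgroup.closure T, x = g * y := by
  set N := Subgroup.closure T with hN
  have h1 : ∀ n ∈ N, g * n * g⁻¹ ∈ N := by
    intro n hn
    refine Subgroup.closure_induction (p := fun n _ => g * n * g⁻¹ ∈ N) ?_ ?_ ?_ ?_ hn
    · exact fun t ht => hconj t ht
    · rw [mul_one, mul_inv_cancel]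
      exact N.one_mem
    · intro x y _ _ hx hy
      have : g * (x * y) * g⁻¹ = (g * x * g⁻¹) * (g * y * g⁻¹) := by group
      rw [this]
      exact N.mul_mem hx hy
    · intro x _ hx
      have : g * x⁻¹ * g⁻¹ = (g * x * g⁻¹)⁻¹ := by group
      rw [this]
      exact N.inv_mem hx
  have h2 : ∀ n ∈ N, g⁻¹ * n * g ∈ N := by
    intro n hn
    have : g⁻¹ * n * g = (g * g)⁻¹ * (g * n * g⁻¹) * (g * g) := by group
    rw [this]
    exact N.mul_mem (N.mul_mem (N.inv_mem hsq) (h1 n hn)) hsq
  let K : Subgroup X :=
    { carrier := {x | x ∈ N ∨ ∃ y ∈ N, x = g * y}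
      one_mem' := Or.inl N.one_mem
      mul_mem' := by
        rintro a b (ha | ⟨y, hy, rfl⟩) (hb | ⟨y', hy', rfl⟩)
        · exact Or.inl (N.mul_mem ha hb)
        · refine Or.inr ⟨g⁻¹ * a * g * y', N.mul_mem (h2 a ha) hy', ?_⟩
          group
        · refine Or.inr ⟨y * b, N.mul_mem hy hb, ?_⟩
          group
        · refine Or.inl ?_
          have : g * y * (g * y') = (g * g) * ((g⁻¹ * y * g) * y') := by group
          rw [this]
          exact N.mul_mem hsq (N.mul_mem (h2 y hy) hy')
      inv_mem' := by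
        rintro a (ha | ⟨y, hy, rfl⟩)
        · exact Or.inl (N.inv_mem ha)
        · refine Or.inr ⟨(g⁻¹ * y⁻¹ * g) * (g * g)⁻¹,
            N.mul_mem (h2 _ (N.inv_mem hy)) (N.inv_mem hsq), ?_⟩
          group }
  have hK : Subgroup.closure (insert g T) ≤ K := by
    rw [Subgroup.closure_le]
    intro t ht
    rcases ht with rfl | ht
    · exact Or.inr ⟨1, N.one_mem, (mul_one _).symm⟩
    · exact Or.inl (Subgroup.subset_closure ht)
  exact hK hx

/-- the bit of a number, as the kernel computes it. -/
def bitT (e m : ℕ) : Bool := Nat.rec false (fun _ _ => true) (Nat.land (Nat.shiftRight e m) 1)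

theorem bitT_eq (e m : ℕ) : bitT e m = e.testBit m := by
  unfold bitT
  have h0 : Nat.land (Nat.shiftRight e m) 1 = (e >>> m) % 2 := Nat.and_one_is_mod _
  rw [h0, Nat.testBit, Nat.one_and_eq_mod_two]
  rcases Nat.mod_two_eq_zero_or_one (e >>> m) with h | h
  · rw [h]
    rfl
  · rw [h]
    rfl

/-- the subgroup generated by the first generators. -/
def chainH (h : ℕ → X) (m : ℕ) : Subgroup X := Subgroup.closure {x | ∃ k, k < m ∧ x = h k}

/-- the normal form: the product of the generators whose bits are set, later generators first. -/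
def nfE (h : ℕ → X) (m e : ℕ) : X :=
  Nat.rec 1 (fun k acc => (if bitT e k then h k else 1) * acc) m

theorem nfE_succ (h : ℕ → X) (m e : ℕ) :
    nfE h (m + 1) e = (if bitT e m then h m else 1) * nfE h m e := rfl

theorem nfE_congr (h : ℕ → X) (m : ℕ) {e e' : ℕ} (hb : ∀ k < m, bitT e k = bitT e' k) :
    nfE h m e = nfE h m e' := by
  induction m with
  | zero => rfl
  | succ m ih =>
    rw [nfE_succ, nfE_succ, hb m (Nat.lt_succ_self m), ih (fun k hk => hb k (Nat.lt_succ_of_lt hk))]

theorem nfE_mem (h : ℕ → X) (m e : ℕ) : nfE h m e ∈ chainH h m := by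
  induction m with
  | zero => exact Subgroup.one_mem _
  | succ m ih =>
    rw [nfE_succ]
    have hle : chainH h m ≤ chainH h (m + 1) := by
      apply Subgroup.closure_mono
      rintro x ⟨k, hk, rfl⟩
      exact ⟨k, Nat.lt_succ_of_lt hk, rfl⟩
    apply Subgroup.mul_mem _ _ (hle ih)
    split_ifs
    · exact Subgroup.subset_closure ⟨m, Nat.lt_succ_self m, rfl⟩
    · exact Subgroup.one_mem _

theorem chainH_succ (h : ℕ → X) (m : ℕ) :
    chainH h (m + 1) = Subgroup.closure (insert (h m) {x | ∃ k, k < m ∧ x = h k}) := by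
  unfold chainH
  congr 1
  ext x
  constructor
  · rintro ⟨k, hk, rfl⟩
    rcases Nat.lt_succ_iff_lt_or_eq.mp hk with h1 | h1
    · exact Or.inr ⟨k, h1, rfl⟩
    · rw [h1]
      exact Or.inl rfl
  · rintro (rfl | ⟨k, hk, rfl⟩)
    · exact ⟨m, Nat.lt_succ_self m, rfl⟩
    · exact ⟨k, Nat.lt_succ_of_lt hk, rfl⟩

/-- the elements of the subgroup generated by a chain are the normal forms. -/
theorem mem_chain (h : ℕ → X) (m : ℕ)
    (hyp : ∀ m', m' < m → (∀ k, k < m' → h m' * h k * (h m')⁻¹ ∈ chainH h m') ∧
      h m' * h m' ∈ chainH h m') :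
    ∀ x ∈ chainH h m, ∃ e, e < 2 ^ m ∧ x = nfE h m e := by
  induction m with
  | zero =>
    intro x hx
    have : chainH h 0 = ⊥ := by
      unfold chainH
      rw [Subgroup.closure_eq_bot_iff]
      rintro x ⟨k, hk, -⟩
      omega
    rw [this, Subgroup.mem_bot] at hx
    exact ⟨0, by norm_num, hx⟩
  | succ m ih =>
    intro x hx
    have ih' := ih (fun m' hm' => hyp m' (Nat.lt_succ_of_lt hm'))
    obtain ⟨hc, hs⟩ := hyp m (Nat.lt_succ_self m)
    rw [chainH_succ] at hx
    have hc' : ∀ t ∈ {x | ∃ k, k < m ∧ x = h k},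
        h m * t * (h m)⁻¹ ∈ Subgroup.closure {x | ∃ k, k < m ∧ x = h k} := by
      rintro t ⟨k, hk, rfl⟩
      exact hc k hk
    rcases mem_or_mul_of_closure_insert _ (h m) hc' hs hx with h1 | ⟨y, hy, rfl⟩
    · obtain ⟨e, he, rfl⟩ := ih' x h1
      refine ⟨e, lt_of_lt_of_le he (Nat.pow_le_pow_right (by norm_num) (Nat.le_succ m)), ?_⟩
      rw [nfE_succ, bitT_eq, Nat.testBit_lt_two_pow he]
      simp
    · obtain ⟨e, he, rfl⟩ := ih' y hy
      refine ⟨2 ^ m + e, by rw [pow_succ]; omega, ?_⟩
      rw [nfE_succ, bitT_eq, Nat.testBit_two_pow_add_eq, Nat.testBit_lt_two_pow he]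
      simp only [Bool.not_false, if_true]
      congr 1
      apply nfE_congr
      intro k hk
      rw [bitT_eq, bitT_eq, Nat.testBit_two_pow_add_gt hk]

end chain

section classes

/-- conjugate elements have the same order. -/
theorem order_conj {X : Type*} [Group X] (g x : X) : orderOf (g * x * g⁻¹) = orderOf x :=
  (MulAut.conj g).orderOf_eq x

/-- orbit-stabilizer for the conjugation action. -/
theorem card_class_mul {X : Type*} [Group X] [Finite X] (x : X) :
    Nat.card (Subgroup.centralizer ({x} : Set X)) * {y | ∃ g : X, g * x * g⁻¹ = y}.ncard =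
      Nat.card X := by
  have h1 := Subgroup.card_mul_index (MulAction.stabilizer (ConjAct X) x)
  rw [MulAction.index_stabilizer] at h1
  have horb : MulAction.orbit (ConjAct X) x = {y | ∃ g : X, g * x * g⁻¹ = y} := by
    ext y
    constructor
    · rintro ⟨g, rfl⟩
      exact ⟨ConjAct.ofConjAct g, (ConjAct.smul_def g x).symm⟩
    · rintro ⟨g, rfl⟩
      exact ⟨ConjAct.toConjAct g, by
        show ConjAct.toConjAct g • x = _
        rw [ConjAct.smul_def]
        rfl⟩
  rw [horb] at h1
  have hst : Nat.card (MulAction.stabilizer (ConjAct X) x) =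
      Nat.card (Subgroup.centralizer ({x} : Set X)) := by
    apply Nat.card_congr
    exact
      { toFun := fun g => ⟨ConjAct.ofConjAct g.1, by
          have := g.2
          rw [MulAction.mem_stabilizer_iff, ConjAct.smul_def] at this
          rw [Subgroup.mem_centralizer_singleton_iff]
          exact mul_inv_eq_iff_eq_mul.mp this⟩
        invFun := fun c => ⟨ConjAct.toConjAct c.1, by
          rw [MulAction.mem_stabilizer_iff, ConjAct.smul_def]
          exact mul_inv_eq_iff_eq_mul.mpr (Subgroup.mem_centralizer_singleton_iff.mp c.2)⟩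
        left_inv := fun _ => rfl
        right_inv := fun _ => rfl }
  rw [hst] at h1
  exact h1

/-- an automorphism carries the centralizer of an element to the centralizer of its image. -/
theorem card_centralizer_aut {X : Type*} [Group X] (β : MulAut X) (x : X) :
    Nat.card (Subgroup.centralizer ({β x} : Set X)) =
      Nat.card (Subgroup.centralizer ({x} : Set X)) := by
  apply Nat.card_congr
  exact
    { toFun := fun c => ⟨β.symm c.1, by
        have := Subgroup.mem_centralizer_singleton_iff.mp c.2
        rw [Subgroup.mem_centralizer_singleton_iff]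
        apply β.injective
        rw [map_mul, map_mul, MulEquiv.apply_symm_apply]
        exact this⟩
      invFun := fun c => ⟨β c.1, by
        have := Subgroup.mem_centralizer_singleton_iff.mp c.2
        rw [Subgroup.mem_centralizer_singleton_iff, ← map_mul, ← map_mul, this]⟩
      left_inv := fun c => Subtype.ext (MulEquiv.apply_symm_apply β c.1)
      right_inv := fun c => Subtype.ext (MulEquiv.symm_apply_apply β c.1) }

theorem card_centralizer_conj {X : Type*} [Group X] (g x : X) :
    Nat.card (Subgroup.centralizer ({g * x * g⁻¹} : Set X)) =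
      Nat.card (Subgroup.centralizer ({x} : Set X)) :=
  card_centralizer_aut (MulAut.conj g) x

/-- two commuting elements of order three, the nine products of whose powers are different,
generate a subgroup of order nine. -/
theorem nine_dvd_card {X : Type*} [Group X] [Finite X] (C : Subgroup X) (u v : X)
    (hu : u ∈ C) (hv : v ∈ C) (hu3 : u ^ 3 = 1) (hv3 : v ^ 3 = 1) (hc : u * v = v * u)
    (hinj : ∀ i j i' j' : Fin 3, u ^ i.val * v ^ j.val = u ^ i'.val * v ^ j'.val →
      i = i' ∧ j = j') :
    9 ∣ Nat.card C := by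
  have hcm : Commute u v := hc
  have hpu : ∀ i : ℕ, u ^ i = u ^ (i % 3) := by
    intro i
    conv_lhs => rw [← Nat.div_add_mod i 3, pow_add, pow_mul, hu3, one_pow, one_mul]
  have hpv : ∀ i : ℕ, v ^ i = v ^ (i % 3) := by
    intro i
    conv_lhs => rw [← Nat.div_add_mod i 3, pow_add, pow_mul, hv3, one_pow, one_mul]
  let M : Subgroup X :=
    { carrier := {x | ∃ i j : ℕ, x = u ^ i * v ^ j}
      one_mem' := ⟨0, 0, by simp⟩
      mul_mem' := by
        rintro a b ⟨i, j, rfl⟩ ⟨k, l, rfl⟩
        refine ⟨i + k, j + l, ?_⟩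
        have h1 : v ^ j * u ^ k = u ^ k * v ^ j := ((hcm.pow_pow k j).eq).symm
        calc u ^ i * v ^ j * (u ^ k * v ^ l) = u ^ i * (v ^ j * u ^ k) * v ^ l := by group
          _ = u ^ i * (u ^ k * v ^ j) * v ^ l := by rw [h1]
          _ = u ^ (i + k) * v ^ (j + l) := by rw [pow_add, pow_add]; group
      inv_mem' := by
        rintro a ⟨i, j, rfl⟩
        refine ⟨2 * i, 2 * j, ?_⟩
        rw [inv_eq_iff_mul_eq_one]
        have h1 : v ^ j * u ^ (2 * i) = u ^ (2 * i) * v ^ j := ((hcm.pow_pow (2 * i) j).eq).symm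
        calc u ^ i * v ^ j * (u ^ (2 * i) * v ^ (2 * j))
            = u ^ i * (v ^ j * u ^ (2 * i)) * v ^ (2 * j) := by group
          _ = u ^ i * (u ^ (2 * i) * v ^ j) * v ^ (2 * j) := by rw [h1]
          _ = u ^ (i + 2 * i) * v ^ (j + 2 * j) := by rw [pow_add, pow_add]; group
          _ = 1 := by
            have e1 : i + 2 * i = 3 * i := by ring
            have e2 : j + 2 * j = 3 * j := by ring
            rw [e1, e2, pow_mul, pow_mul, hu3, hv3, one_pow, one_pow, one_mul] }
  have hMC : M ≤ C := by
    rintro x ⟨i, j, rfl⟩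
    exact C.mul_mem (C.pow_mem hu i) (C.pow_mem hv j)
  have hcard : Nat.card M = 9 := by
    let f : Fin 3 × Fin 3 → M := fun p => ⟨u ^ p.1.val * v ^ p.2.val, p.1.val, p.2.val, rfl⟩
    have hf : Function.Bijective f := by
      constructor
      · rintro ⟨i, j⟩ ⟨i', j'⟩ h
        obtain ⟨h1, h2⟩ := hinj i j i' j' (congrArg Subtype.val h)
        rw [h1, h2]
      · rintro ⟨x, i, j, rfl⟩
        refine ⟨(⟨i % 3, Nat.mod_lt _ (by norm_num)⟩, ⟨j % 3, Nat.mod_lt _ (by norm_num)⟩), ?_⟩
        apply Subtype.ext
        change u ^ (i % 3) * v ^ (j % 3) = u ^ i * v ^ j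
        rw [← hpu, ← hpv]
    rw [← Nat.card_congr (Equiv.ofBijective f hf), Nat.card_prod, Nat.card_fin]
  rw [← hcard]
  exact Subgroup.card_dvd_of_le hMC

end classes

/-- isomorphic groups have outer automorphism groups of the same order. -/
theorem card_out_congr {X Y : Type*} [Group X] [Group Y] (e : X ≃* Y) :
    Nat.card (Cfsg.Out X) = Nat.card (Cfsg.Out Y) := by
  let φ : MulAut X ≃* MulAut Y := MulAut.congr e
  have hφ : ∀ (α : MulAut X) (y : Y), φ α y = e (α (e.symm y)) := fun _ _ => rfl
  have h : Cfsg.Inn X = (Cfsg.Inn Y).comap φ.toMonoidHom := by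
    ext α
    rw [Subgroup.mem_comap]
    constructor
    · rintro ⟨g, rfl⟩
      refine ⟨e g, ?_⟩
      apply MulEquiv.ext
      intro y
      change _ = φ (MulAut.conj g) y
      rw [hφ, MulAut.conj_apply, MulAut.conj_apply, map_mul, map_mul, map_inv,
        MulEquiv.apply_symm_apply]
    · rintro ⟨k, hk⟩
      refine ⟨e.symm k, ?_⟩
      apply MulEquiv.ext
      intro x
      have h1 := congrArg (fun f : MulAut Y => f (e x)) hk
      change MulAut.conj k (e x) = φ α (e x) at h1
      rw [hφ, MulEquiv.symm_apply_apply, MulAut.conj_apply] at h1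
      rw [MulAut.conj_apply]
      apply e.injective
      rw [← h1, map_mul, map_mul, map_inv, MulEquiv.apply_symm_apply]
  change (Cfsg.Inn X).index = (Cfsg.Inn Y).index
  rw [h, Subgroup.index_comap_of_surjective _ φ.surjective]

end Cfsg.Agent.Helper9.HeO
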