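import Mathlib
import Cfsg.Agent.Helper9.HeC.ChkC
import Cfsg.Agent.Helper9.HeO.Data

set_option autoImplicit false
set_option Elab.async false

/-! The element of order seventeen, the first letter and the involution of the points that
normalizes the group of Held on 2058 points. -/

namespace Cfsg.Agent.Helper9.HeO

open Cfsg.Agent.Helper9.J3 Cfsg.Agent.Helper9.He Cfsg.Agent.Helper9.HeC

/-- the image of a point under a power of the element of order seventeen. -/
def aF (i x : ℕ) : ℕ := lk12 (nthL apL i) x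

/-- the word of the element of order seventeen. -/
def aW : List ℕ := [1, 2, 3, 5]

/-- the element of order seventeen. -/
def aG : ↥HeP := ⟨permW aW, permW_mem _⟩

/-- the first letter. -/
def bG : ↥HeP := ⟨P 0, P_mem 0⟩

set_option maxRecDepth 1000000 in
theorem aW_tab_b : chkWord aW apT1 = true := by decide +kernel

set_option maxRecDepth 1000000 in
theorem ap_step_b : allB (fun i => chkMul (nthL apL (Nat.succ i)) apT1 (nthL apL i)) 17 = true := by
  decide +kernel

set_option maxRecDepth 1000000 in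
theorem ap_zero_b : chkId apT0 = true := by decide +kernel

set_option maxRecDepth 1000000 in
theorem ap_last_b : chkId apT17 = true := by decide +kernel

theorem aW_letters : ∀ l ∈ aW, l < 7 := by decide

theorem aG_apply (p : Fin nP) : ((aG : Equiv.Perm (Fin nP)) p).val = aF 1 p.val := by
  change (permW aW p).val = lk12 apT1 p.val
  rw [permW_val aW aW_letters]
  exact chkWord_true aW_tab_b p.isLt

theorem aF_zero {x : ℕ} (hx : x < nP) : aF 0 x = x := chkId_true ap_zero_b hx

theorem aF_last {x : ℕ} (hx : x < nP) : aF 17 x = x := chkId_true ap_last_b hx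

theorem aF_succ {i : ℕ} (hi : i < 17) {x : ℕ} (hx : x < nP) : aF (i + 1) x = aF 1 (aF i x) :=
  chkMul_true (allB_true ap_step_b hi) hx

theorem aG_pow_apply (i : ℕ) (hi : i ≤ 17) (p : Fin nP) :
    (((aG ^ i : ↥HeP) : Equiv.Perm (Fin nP)) p).val = aF i p.val := by
  induction i with
  | zero =>
    rw [pow_zero, aF_zero p.isLt]
    rfl
  | succ i ih =>
    rw [pow_succ', Subgroup.coe_mul, Equiv.Perm.mul_apply, aG_apply, ih (by omega),
      aF_succ (by omega) p.isLt]

theorem aG_pow17 : aG ^ 17 = 1 := by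
  apply Subtype.ext
  apply perm_ext
  intro p
  rw [aG_pow_apply 17 le_rfl, aF_last p.isLt]
  rfl

theorem aG_ne_one : aG ≠ 1 := by
  intro h
  have h1 := aG_apply (0 : Fin nP)
  rw [h] at h1
  revert h1
  change ¬ (0 = aF 1 0)
  decide +kernel

theorem order_aG : orderOf aG = 17 := by
  have : Fact (Nat.Prime 17) := ⟨by norm_num⟩
  exact orderOf_eq_prime aG_pow17 aG_ne_one

theorem aG_pow_inv {i : ℕ} (hi : i ≤ 17) : (aG ^ i)⁻¹ = aG ^ (17 - i) := by
  rw [inv_eq_iff_mul_eq_one, ← pow_add, Nat.add_sub_cancel' hi, aG_pow17]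

theorem aG_pow_inv_apply {i : ℕ} (hi : i ≤ 17) (p : Fin nP) :
    ((((aG ^ i)⁻¹ : ↥HeP) : Equiv.Perm (Fin nP)) p).val = aF (17 - i) p.val := by
  rw [aG_pow_inv hi, aG_pow_apply _ (by omega)]

theorem bG_apply (p : Fin nP) : ((bG : Equiv.Perm (Fin nP)) p).val = tabF 0 p.val := by
  change (P 0 p).val = _
  rw [P_apply, tab_of_lt (by norm_num)]

theorem bG_mul_self : bG * bG = 1 := Subtype.ext (P_mul_self 0)

theorem bG_inv : bG⁻¹ = bG := inv_eq_of_mul_eq_one_left bG_mul_self

theorem bG_ne_one : bG ≠ 1 := by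
  intro h
  have h1 := bG_apply (⟨18, by norm_num⟩ : Fin nP)
  rw [h] at h1
  revert h1
  change ¬ (18 = tabF 0 18)
  decide +kernel

theorem order_bG : orderOf bG = 2 := by
  apply orderOf_eq_prime
  · rw [pow_two]
    exact bG_mul_self
  · exact bG_ne_one

/-! ### the involution of the points -/

/-- the image of a point under the involution of the points. -/
def xF (x : ℕ) : ℕ := lk12 xT x

/-- the letters exchanged by the involution of the points. -/
def swL : List ℕ := [0, 1, 2, 3, 4, 6, 5]

/-- the check of the table of the involution of the points. -/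
def xChk (x : ℕ) : Bool :=
  andB (Nat.ble (xF x) 2057) (andB (Nat.beq (sapp xF (xF x)) x) (notB (Nat.beq (xF x) x)))

set_option maxRecDepth 1000000 in
theorem x_ok_b : allB xChk nP = true := by decide +kernel

/-- the check that the involution of the points exchanges the letters. -/
def xConjChk (l : ℕ) : Bool :=
  allB (fun x => Nat.beq (sapp xF (sapp (tabF l) (xF x))) (tabF (nthL swL l) x)) nP

set_option maxRecDepth 1000000 in
theorem x_conj_b : allB xConjChk 7 = true := by decide +kernel

theorem xF_lt {x : ℕ} (hx : x < nP) : xF x < nP :=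
  Nat.lt_succ_of_le (Nat.le_of_ble_eq_true (andB_true (allB_true x_ok_b hx)).1)

theorem xF_xF {x : ℕ} (hx : x < nP) : xF (xF x) = x := by
  have h := (andB_true (andB_true (allB_true x_ok_b hx)).2).1
  rw [sapp_eq] at h
  exact Nat.eq_of_beq_eq_true h

theorem xF_ne {x : ℕ} (hx : x < nP) : xF x ≠ x := by
  have h := notB_true (andB_true (andB_true (allB_true x_ok_b hx)).2).2
  intro e
  rw [e, Nat.beq_refl] at h
  exact Bool.noConfusion h

/-- the involution of the points. -/
def X : Equiv.Perm (Fin nP) where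
  toFun x := ⟨xF x.val, xF_lt x.isLt⟩
  invFun x := ⟨xF x.val, xF_lt x.isLt⟩
  left_inv x := Fin.ext (xF_xF x.isLt)
  right_inv x := Fin.ext (xF_xF x.isLt)

theorem X_apply (x : Fin nP) : (X x).val = xF x.val := rfl

theorem X_mul_self : X * X = 1 := by
  apply Equiv.ext
  intro x
  exact Fin.ext (xF_xF x.isLt)

theorem X_inv : X⁻¹ = X := inv_eq_of_mul_eq_one_right X_mul_self

theorem X_no_fixed (x : Fin nP) : X x ≠ x := by
  intro h
  exact xF_ne x.isLt (congrArg Fin.val h)

theorem swL_lt {l : ℕ} (hl : l < 7) : nthL swL l < 7 := by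
  interval_cases l <;> decide

theorem X_conj_P {l : ℕ} (hl : l < 7) : X * P l * X⁻¹ = P (nthL swL l) := by
  apply perm_ext
  intro p
  rw [X_inv, Equiv.Perm.mul_apply, Equiv.Perm.mul_apply, X_apply, P_apply, X_apply, P_apply,
    tab_of_lt hl, tab_of_lt (swL_lt hl)]
  have h := allB_true (allB_true x_conj_b hl) p.isLt
  rw [sapp_eq, sapp_eq] at h
  exact Nat.eq_of_beq_eq_true h

theorem conjX_mul (x y : Equiv.Perm (Fin nP)) :
    X * (x * y) * X⁻¹ = (X * x * X⁻¹) * (X * y * X⁻¹) := by group

theorem conjX_inv (x : Equiv.Perm (Fin nP)) : X * x⁻¹ * X⁻¹ = (X * x * X⁻¹)⁻¹ := by group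

/-- the involution of the points normalizes the group. -/
theorem conjX_mem {x : Equiv.Perm (Fin nP)} (hx : x ∈ HeP) : X * x * X⁻¹ ∈ HeP := by
  refine Subgroup.closure_induction (p := fun x _ => X * x * X⁻¹ ∈ HeP) ?_ ?_ ?_ ?_ hx
  · rintro x ⟨l, rfl⟩
    change X * P l.val * X⁻¹ ∈ HeP
    rw [X_conj_P l.isLt]
    exact P_mem _
  · rw [mul_one, mul_inv_cancel]
    exact HeP.one_mem
  · intro x y _ _ hx hy
    rw [conjX_mul]
    exact HeP.mul_mem hx hy
  · intro x _ hx
    rw [conjX_inv]
    exact HeP.inv_mem hx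

theorem conjX_conjX (x : Equiv.Perm (Fin nP)) : X * (X * x * X⁻¹) * X⁻¹ = x := by
  rw [X_inv]
  calc X * (X * x * X) * X = (X * X) * x * (X * X) := by group
    _ = x := by rw [X_mul_self, one_mul, mul_one]

/-- conjugation by the involution of the points. -/
def tauX : MulAut ↥HeP where
  toFun x := ⟨X * x.1 * X⁻¹, conjX_mem x.2⟩
  invFun x := ⟨X * x.1 * X⁻¹, conjX_mem x.2⟩
  left_inv x := Subtype.ext (conjX_conjX x.1)
  right_inv x := Subtype.ext (conjX_conjX x.1)
  map_mul' x y := Subtype.ext (conjX_mul x.1 y.1)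

theorem tauX_apply (x : ↥HeP) : ((tauX x : ↥HeP) : Equiv.Perm (Fin nP)) = X * x.1 * X⁻¹ := rfl

end Cfsg.Agent.Helper9.HeO
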