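import Mathlib
import Cfsg.Agent.Helper9.HeO.Base
import Cfsg.Agent.Helper9.HeO.Abs

set_option autoImplicit false
set_option Elab.async false

/-! A subgroup of order 1024 of the group of Held on 2058 points, generated by a chain of ten
involutions; its elements in normal form. -/

namespace Cfsg.Agent.Helper9.HeO

open Cfsg.Agent.Helper9.J3 Cfsg.Agent.Helper9.He Cfsg.Agent.Helper9.HeC

/-- the entry of the classification of an element of the subgroup. -/
def clsEnt (e : ℕ) : ℕ := lkF 104 20282409603651670423947251286015 clsD e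

/-- the kind of an element of the subgroup. -/
def clsKind (e : ℕ) : ℕ := Nat.land (clsEnt e) 255

/-- the remaining part of the entry. -/
def clsPay (e : ℕ) : ℕ := Nat.shiftRight (clsEnt e) 8

/-- the letter an element of the subgroup is conjugate to. -/
def cLet (e : ℕ) : ℕ := Nat.rec 0 (fun _ _ => 3) (Nat.sub (clsKind e) 2)

/-- the word conjugating the letter to the element of the subgroup. -/
def cword (e : ℕ) : List ℕ := wordOf (clsPay e)

/-- the word of the conjugate of a letter. -/
def conjWd (c : ℕ) (w : List ℕ) : List ℕ := w ++ c :: w.reverse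

/-- the word of an involution of the subgroup. -/
def cconj (e : ℕ) : List ℕ := conjWd (cLet e) (cword e)

theorem conjWd_letters {c : ℕ} (hc : c < 7) {w : List ℕ} (hw : ∀ l ∈ w, l < 7) :
    ∀ l ∈ conjWd c w, l < 7 := by
  intro l hl
  unfold conjWd at hl
  rcases List.mem_append.mp hl with h | h
  · exact hw l h
  · rcases List.mem_cons.mp h with rfl | h
    · exact hc
    · exact hw l (List.mem_reverse.mp h)

theorem permW_conjWd (c : ℕ) (w : List ℕ) :
    permW (conjWd c w) = permW w * P c * (permW w)⁻¹ := by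
  unfold conjWd
  rw [permW_append, permW_cons, permW_reverse, mul_assoc]

theorem cLet_lt (e : ℕ) : cLet e < 7 := by
  unfold cLet
  generalize Nat.sub (clsKind e) 2 = t
  cases t with
  | zero =>
    show (0 : ℕ) < 7
    norm_num
  | succ n =>
    show (3 : ℕ) < 7
    norm_num

/-- the image of a point under a generator of the subgroup. -/
def hF (m x : ℕ) : ℕ := lk12 (nthL hL m) x

/-- a generator of the subgroup. -/
def hG (m : ℕ) : ↥HeP := ⟨permW (cconj (2 ^ m)), permW_mem _⟩

/-- the check of the table of a generator. -/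
def hTabChk (m : ℕ) : Bool :=
  andB (okLetters (cword (Nat.pow 2 m))) (chkWord (cconj (Nat.pow 2 m)) (nthL hL m))

set_option maxRecDepth 1000000 in
theorem hTab_b : allB hTabChk 10 = true := by decide +kernel

theorem hG_apply {m : ℕ} (hm : m < 10) (p : Fin nP) :
    ((hG m : Equiv.Perm (Fin nP)) p).val = hF m p.val := by
  obtain ⟨h1, h2⟩ := andB_true (allB_true hTab_b hm)
  have h1' : okLetters (cword (2 ^ m)) = true := h1
  have h2' : chkWord (cconj (2 ^ m)) (nthL hL m) = true := h2
  change (permW (cconj (2 ^ m)) p).val = _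
  have hl : ∀ l ∈ cconj (2 ^ m), l < 7 := conjWd_letters (cLet_lt _) (okLetters_true h1')
  rw [permW_val _ hl]
  exact chkWord_true h2' p.isLt

theorem hG_mul_self (m : ℕ) : hG m * hG m = 1 := by
  apply Subtype.ext
  change permW (cconj (2 ^ m)) * permW (cconj (2 ^ m)) = 1
  unfold cconj
  rw [permW_conjWd]
  have : permW (cword (2 ^ m)) * P (cLet (2 ^ m)) * (permW (cword (2 ^ m)))⁻¹ *
      (permW (cword (2 ^ m)) * P (cLet (2 ^ m)) * (permW (cword (2 ^ m)))⁻¹) =
      permW (cword (2 ^ m)) * (P (cLet (2 ^ m)) * P (cLet (2 ^ m))) *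
        (permW (cword (2 ^ m)))⁻¹ := by group
  rw [this, P_mul_self, mul_one, mul_inv_cancel]

theorem hG_inv (m : ℕ) : (hG m)⁻¹ = hG m := inv_eq_of_mul_eq_one_left (hG_mul_self m)

/-- the image of a point under a normal form. -/
def nfF (m e x : ℕ) : ℕ := Nat.rec x (fun k acc => Bool.rec acc (hF k acc) (bitT e k)) m

theorem nfF_succ (m e x : ℕ) :
    nfF (m + 1) e x = Bool.rec (nfF m e x) (hF m (nfF m e x)) (bitT e m) := rfl

/-- the normal form as an element of the group. -/
def nfG (m e : ℕ) : ↥HeP := nfE hG m e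

theorem nfG_apply {m : ℕ} (hm : m ≤ 10) (e : ℕ) (p : Fin nP) :
    ((nfG m e : Equiv.Perm (Fin nP)) p).val = nfF m e p.val := by
  induction m with
  | zero => rfl
  | succ m ih =>
    unfold nfG
    rw [nfE_succ, nfF_succ]
    cases hb : bitT e m
    · rw [if_neg (by simp), one_mul]
      exact ih (by omega)
    · rw [if_pos rfl, Subgroup.coe_mul, Equiv.Perm.mul_apply, hG_apply (by omega)]
      have := ih (by omega)
      unfold nfG at this
      rw [this]

/-- the code of the conjugate of a generator by a later generator. -/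
def relc (m k : ℕ) : ℕ := lkF 10 1023 relD (Nat.add (Nat.mul 10 m) k)

/-- the check of the conjugates of the generators. -/
def relChk (m : ℕ) : Bool :=
  allB (fun k => allB (fun x =>
    Nat.beq (sapp (hF m) (sapp (hF k) (hF m x))) (nfF m (relc m k) x)) nP) m

set_option maxRecDepth 1000000 in
theorem rel_b : allB relChk 10 = true := by decide +kernel

theorem hG_conj {m k : ℕ} (hm : m < 10) (hk : k < m) :
    hG m * hG k * (hG m)⁻¹ = nfG m (relc m k) := by
  apply Subtype.ext
  apply perm_ext
  intro p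
  rw [hG_inv, nfG_apply (by omega)]
  change ((hG m : Equiv.Perm (Fin nP)) ((hG k : Equiv.Perm (Fin nP))
    ((hG m : Equiv.Perm (Fin nP)) p))).val = _
  rw [hG_apply hm, hG_apply (by omega), hG_apply hm]
  have h := allB_true (allB_true (allB_true rel_b hm) hk) p.isLt
  rw [sapp_eq, sapp_eq] at h
  exact Nat.eq_of_beq_eq_true h

/-- the subgroups of the chain. -/
def SH (m : ℕ) : Subgroup ↥HeP := chainH hG m

theorem mem_SH {m : ℕ} (hm : m ≤ 10) {x : ↥HeP} (hx : x ∈ SH m) :
    ∃ e, e < 2 ^ m ∧ x = nfG m e := by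
  refine mem_chain hG m ?_ x hx
  intro m' hm'
  constructor
  · intro k hk
    rw [hG_conj (by omega) hk]
    exact nfE_mem hG m' _
  · rw [hG_mul_self]
    exact Subgroup.one_mem _

/-! ### the normal forms are different -/

/-- the signature of a normal form. -/
def sSig (e : ℕ) : ℕ := Nat.add (nfF 10 e 1515) (Nat.mul 4096 (nfF 10 e 1441))

/-- the entry of the sorted list of the normal forms. -/
def srt (k : ℕ) : ℕ := lkF 10 1023 srtD k

/-- the check that the signatures increase. -/
def srtChk (k : ℕ) : Bool :=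
  andB (Nat.ble (srt k) 1023)
    (orB (Nat.ble 1023 k) (Nat.ble (Nat.succ (sapp sSig (srt k))) (sapp sSig (srt (Nat.succ k)))))

set_option maxRecDepth 1000000 in
theorem srt_b : allB srtChk 1024 = true := by decide +kernel

theorem srt_lt {k : ℕ} (hk : k < 1024) : srt k < 1024 :=
  Nat.lt_succ_of_le (Nat.le_of_ble_eq_true (andB_true (allB_true srt_b hk)).1)

theorem srt_step {k : ℕ} (hk : k + 1 < 1024) : sSig (srt k) < sSig (srt (k + 1)) := by
  have h := (andB_true (allB_true srt_b (show k < 1024 by omega))).2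
  rcases orB_true h with h1 | h1
  · have := Nat.le_of_ble_eq_true h1
    omega
  · rw [sapp_eq, sapp_eq] at h1
    exact Nat.lt_of_succ_le (Nat.le_of_ble_eq_true h1)

theorem sSig_eq (e : ℕ) : sSig e =
    ((nfG 10 e : Equiv.Perm (Fin nP)) (⟨1515, by norm_num⟩ : Fin nP)).val +
      4096 * ((nfG 10 e : Equiv.Perm (Fin nP)) (⟨1441, by norm_num⟩ : Fin nP)).val := by
  rw [nfG_apply le_rfl, nfG_apply le_rfl]
  rfl

theorem srt_inj {k k' : ℕ} (hk : k < 1024) (hk' : k' < 1024) (h : srt k = srt k') : k = k' := by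
  apply inj_of_step (f := fun k => sSig (srt k)) (m := 1024) (fun j hj => srt_step hj) hk hk'
  rw [h]

theorem srt_surj {e : ℕ} (he : e < 1024) : ∃ k, k < 1024 ∧ srt k = e := by
  let f : Fin 1024 → Fin 1024 := fun k => ⟨srt k.val, srt_lt k.isLt⟩
  have hf : Function.Injective f := by
    intro k k' h
    exact Fin.ext (srt_inj k.isLt k'.isLt (congrArg Fin.val h))
  obtain ⟨k, hk⟩ := (Finite.injective_iff_surjective.mp hf) ⟨e, he⟩
  exact ⟨k.val, k.isLt, congrArg Fin.val hk⟩

theorem sSig_inj {e e' : ℕ} (he : e < 1024) (he' : e' < 1024) (h : sSig e = sSig e') : e = e' := by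
  obtain ⟨k, hk, rfl⟩ := srt_surj he
  obtain ⟨k', hk', rfl⟩ := srt_surj he'
  have : k = k' :=
    inj_of_step (f := fun k => sSig (srt k)) (m := 1024) (fun j hj => srt_step hj) hk hk' h
  rw [this]

/-- the normal forms are different. -/
theorem nfG_inj {e e' : ℕ} (he : e < 1024) (he' : e' < 1024) (h : nfG 10 e = nfG 10 e') :
    e = e' := by
  apply sSig_inj he he'
  rw [sSig_eq, sSig_eq, h]

theorem nfG_add {m : ℕ} {e : ℕ} (he : e < 2 ^ m) (d : ℕ) : nfG (m + d) e = nfG m e := by
  induction d with
  | zero => rfl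
  | succ d ih =>
    unfold nfG at ih ⊢
    rw [← add_assoc, nfE_succ, ih]
    have hlt : e < 2 ^ (m + d) := lt_of_lt_of_le he (Nat.pow_le_pow_right (by norm_num) (by omega))
    rw [bitT_eq, Nat.testBit_lt_two_pow hlt]
    simp

theorem nfG_lt {m : ℕ} (hm : m ≤ 10) {e : ℕ} (he : e < 2 ^ m) : nfG m e = nfG 10 e := by
  have h := nfG_add he (10 - m)
  rw [Nat.add_sub_cancel' hm] at h
  exact h.symm

/-- the orders of the subgroups of the chain. -/
theorem card_SH {m : ℕ} (hm : m ≤ 10) : Nat.card (SH m) = 2 ^ m := by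
  let f : Fin (2 ^ m) → SH m := fun e => ⟨nfG m e.val, nfE_mem hG m _⟩
  have hpow : 2 ^ m ≤ 1024 := by
    have : (1024 : ℕ) = 2 ^ 10 := by norm_num
    rw [this]
    exact Nat.pow_le_pow_right (by norm_num) hm
  have hf : Function.Bijective f := by
    constructor
    · intro e e' h
      have h1 : nfG m e.val = nfG m e'.val := congrArg Subtype.val h
      rw [nfG_lt hm e.isLt, nfG_lt hm e'.isLt] at h1
      exact Fin.ext (nfG_inj (by omega) (by omega) h1)
    · rintro ⟨x, hx⟩
      obtain ⟨e, he, rfl⟩ := mem_SH hm hx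
      exact ⟨⟨e, he⟩, rfl⟩
  rw [← Nat.card_congr (Equiv.ofBijective f hf), Nat.card_fin]

end Cfsg.Agent.Helper9.HeO
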