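import Mathlib
import Cfsg.Agent.Helper9.HeO.Syl
import Cfsg.Agent.Helper9.J3Z.Sylow

set_option autoImplicit false
set_option Elab.async false

/-! Every involution of the group of Held on 2058 points is conjugate to the first or to the
fourth letter: the involutions of a subgroup of order 1024. -/

namespace Cfsg.Agent.Helper9.HeO

open Cfsg.Agent.Helper9.J3 Cfsg.Agent.Helper9.He Cfsg.Agent.Helper9.HeC

/-- a letter of a packed word. -/
def letC (c j : ℕ) : ℕ := Nat.land (Nat.shiftRight c (Nat.add 8 (Nat.mul 3 j))) 7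

/-- the image of a point under a packed word. -/
def evalC (c x : ℕ) : ℕ := Nat.rec x (fun j acc => sapp (tabF (letC c j)) acc) (Nat.land c 255)

theorem evalC_eq (c x : ℕ) : evalC c x = evalF (wordOf c) x := by
  unfold evalC wordOf
  generalize Nat.land c 255 = n
  induction n with
  | zero => rfl
  | succ n ih => exact congrArg (sapp (tabF (letC c n))) ih

/-- the fourth letter. -/
def zG : ↥HeP := ⟨P 3, P_mem 3⟩

/-- the check that an element of the subgroup is the conjugate of a letter by a word. -/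
def dirChk (e : ℕ) : Bool :=
  sapp (fun c => sapp (fun l => andB (okLetters (wordOf c))
    (allB (fun x => Nat.beq (sapp (nfF 10 e) (evalC c x)) (evalC c (tabF l x))) nP))
      (cLet e)) (clsPay e)

/-- the check that an element of the subgroup is conjugate in the subgroup to an element that
is the conjugate of a letter by a word. -/
def subChk (e : ℕ) : Bool :=
  sapp (fun s => sapp (fun e0 =>
    andB (Nat.ble e0 1023) (andB (Nat.ble 2 (clsKind e0)) (andB (Nat.ble (clsKind e0) 3)
      (andB (Nat.beq (sapp (nfF 10 s) (nfF 10 e0 1515)) (sapp (nfF 10 e) (nfF 10 s 1515)))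
        (Nat.beq (sapp (nfF 10 s) (nfF 10 e0 1441)) (sapp (nfF 10 e) (nfF 10 s 1441)))))))
    (Nat.shiftRight (clsPay e) 10)) (Nat.land (clsPay e) 1023)

/-- the check of the classification of an element of the subgroup. -/
def clsChk' (e : ℕ) : Bool :=
  sapp (fun kind => ifz kind (Nat.beq e 0)
    (ifz (Nat.sub kind 1)
      (sapp (fun p => andB (Nat.ble p 2057)
        (notB (Nat.beq (sapp (nfF 10 e) (nfF 10 e p)) p))) (clsPay e))
      (ifz (Nat.sub kind 2) (dirChk e) (ifz (Nat.sub kind 3) (dirChk e) (subChk e)))))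
    (clsKind e)

/-- the check of the classification of an element of the subgroup. -/
def clsChk (e : ℕ) : Bool := sapp clsChk' e

set_option maxRecDepth 1000000 in
theorem cls_b_0 : allC clsChk 0 128 = true := by decide +kernel

set_option maxRecDepth 1000000 in
theorem cls_b_1 : allC clsChk 1 128 = true := by decide +kernel

set_option maxRecDepth 1000000 in
theorem cls_b_2 : allC clsChk 2 128 = true := by decide +kernel

set_option maxRecDepth 1000000 in
theorem cls_b_3 : allC clsChk 3 128 = true := by decide +kernel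

set_option maxRecDepth 1000000 in
theorem cls_b_4 : allC clsChk 4 128 = true := by decide +kernel

set_option maxRecDepth 1000000 in
theorem cls_b_5 : allC clsChk 5 128 = true := by decide +kernel

set_option maxRecDepth 1000000 in
theorem cls_b_6 : allC clsChk 6 128 = true := by decide +kernel

set_option maxRecDepth 1000000 in
theorem cls_b_7 : allC clsChk 7 128 = true := by decide +kernel

theorem cls_b {e : ℕ} (he : e < 1024) : clsChk' e = true := by
  have h : clsChk e = true := by
    refine allC_true (K := 8) (c := 128) ?_ (by omega)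
    intro k hk
    interval_cases k
    · exact cls_b_0
    · exact cls_b_1
    · exact cls_b_2
    · exact cls_b_3
    · exact cls_b_4
    · exact cls_b_5
    · exact cls_b_6
    · exact cls_b_7
  unfold clsChk at h
  rwa [sapp_eq] at h

theorem nfE_zero {X : Type*} [Group X] (h : ℕ → X) (m : ℕ) : nfE h m 0 = 1 := by
  induction m with
  | zero => rfl
  | succ m ih =>
    rw [nfE_succ, ih, bitT_eq, Nat.zero_testBit]
    simp

/-- an element of the subgroup that passes the check is the conjugate of a letter. -/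
theorem dir_main {e : ℕ} (h : dirChk e = true) :
    ∃ g : ↥HeP, (nfG 10 e : Equiv.Perm (Fin nP)) = g.1 * P (cLet e) * g.1⁻¹ := by
  unfold dirChk at h
  rw [sapp_eq, sapp_eq] at h
  obtain ⟨h1, h2⟩ := andB_true h
  have hl : ∀ l ∈ cword e, l < 7 := okLetters_true h1
  refine ⟨⟨permW (cword e), permW_mem _⟩, ?_⟩
  rw [eq_mul_inv_iff_mul_eq]
  apply perm_ext
  intro p
  rw [Equiv.Perm.mul_apply, Equiv.Perm.mul_apply, nfG_apply le_rfl, permW_val _ hl,
    permW_val _ hl, P_apply, tab_of_lt (cLet_lt e)]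
  have h3 := allB_true h2 p.isLt
  rw [sapp_eq, evalC_eq, evalC_eq] at h3
  exact Nat.eq_of_beq_eq_true h3

theorem cLet_two {e : ℕ} (h : clsKind e = 2) : cLet e = 0 := by
  unfold cLet
  rw [h]
  rfl

theorem cLet_three {e : ℕ} (h : clsKind e = 3) : cLet e = 3 := by
  unfold cLet
  rw [h]
  rfl

/-- the elements of the two kinds that are conjugates of a letter by a word. -/
theorem dir_kind {e : ℕ} (he : e < 1024) :
    (clsKind e = 2 → ∃ g : ↥HeP, nfG 10 e = g * bG * g⁻¹) ∧
      (clsKind e = 3 → ∃ g : ↥HeP, nfG 10 e = g * zG * g⁻¹) := by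
  have h := cls_b he
  unfold clsChk' at h
  rw [sapp_eq] at h
  constructor
  · intro hk
    rw [hk, ifz_pos (by norm_num), ifz_pos (by decide), ifz_zero] at h
    obtain ⟨g, hg⟩ := dir_main h
    rw [cLet_two hk] at hg
    exact ⟨g, Subtype.ext hg⟩
  · intro hk
    rw [hk, ifz_pos (by norm_num), ifz_pos (by decide), ifz_pos (by decide), ifz_zero] at h
    obtain ⟨g, hg⟩ := dir_main h
    rw [cLet_three hk] at hg
    exact ⟨g, Subtype.ext hg⟩

/-- the signature of an element of the group. -/
def sigG (x : ↥HeP) : ℕ :=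
  ((x : Equiv.Perm (Fin nP)) (⟨1515, by norm_num⟩ : Fin nP)).val +
    4096 * ((x : Equiv.Perm (Fin nP)) (⟨1441, by norm_num⟩ : Fin nP)).val

/-- elements of the subgroup with the same signature are equal. -/
theorem eq_of_sigG {x y : ↥HeP} (hx : x ∈ SH 10) (hy : y ∈ SH 10) (h : sigG x = sigG y) :
    x = y := by
  obtain ⟨e, he, rfl⟩ := mem_SH le_rfl hx
  obtain ⟨e', he', rfl⟩ := mem_SH le_rfl hy
  have h1 : e = e' := by
    apply sSig_inj (by norm_num at he; exact he) (by norm_num at he'; exact he')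
    rw [sSig_eq, sSig_eq]
    exact h
  rw [h1]

/-- the classification of the elements of the subgroup. -/
theorem cls_main {e : ℕ} (he : e < 1024) :
    e = 0 ∨ nfG 10 e * nfG 10 e ≠ 1 ∨ (∃ g : ↥HeP, nfG 10 e = g * bG * g⁻¹) ∨
      ∃ g : ↥HeP, nfG 10 e = g * zG * g⁻¹ := by
  have h := cls_b he
  unfold clsChk' at h
  rw [sapp_eq] at h
  rcases Nat.eq_zero_or_pos (clsKind e) with hk | hk
  · rw [hk, ifz_zero] at h
    exact Or.inl (Nat.eq_of_beq_eq_true h)
  rw [ifz_pos (by omega)] at h
  rcases Nat.eq_zero_or_pos (Nat.sub (clsKind e) 1) with hk1 | hk1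
  · rw [hk1, ifz_zero, sapp_eq] at h
    obtain ⟨h1, h2⟩ := andB_true h
    have hp : clsPay e < nP := Nat.lt_succ_of_le (Nat.le_of_ble_eq_true h1)
    right; left
    intro h3
    have h4 := congrArg (fun g : ↥HeP => ((g : Equiv.Perm (Fin nP)) ⟨clsPay e, hp⟩).val) h3
    simp only [Subgroup.coe_mul, Equiv.Perm.mul_apply, Subgroup.coe_one, Equiv.Perm.one_apply]
      at h4
    rw [nfG_apply le_rfl, nfG_apply le_rfl] at h4
    have h5 := notB_true h2
    rw [sapp_eq] at h5
    change nfF 10 e (nfF 10 e (clsPay e)) = clsPay e at h4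
    rw [h4, Nat.beq_refl] at h5
    exact Bool.noConfusion h5
  rw [ifz_pos (by omega)] at h
  have hsub1 : Nat.sub (clsKind e) 1 = clsKind e - 1 := rfl
  rcases Nat.eq_zero_or_pos (Nat.sub (clsKind e) 2) with hk2 | hk2
  · have hk' : clsKind e = 2 := by
      have : Nat.sub (clsKind e) 2 = clsKind e - 2 := rfl
      omega
    exact Or.inr (Or.inr (Or.inl ((dir_kind he).1 hk')))
  rw [ifz_pos (by omega)] at h
  rcases Nat.eq_zero_or_pos (Nat.sub (clsKind e) 3) with hk3 | hk3
  · have hk' : clsKind e = 3 := by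
      have e2 : Nat.sub (clsKind e) 2 = clsKind e - 2 := rfl
      have e3 : Nat.sub (clsKind e) 3 = clsKind e - 3 := rfl
      omega
    exact Or.inr (Or.inr (Or.inr ((dir_kind he).2 hk')))
  rw [ifz_pos (by omega)] at h
  -- conjugate in the subgroup
  unfold subChk at h
  rw [sapp_eq, sapp_eq] at h
  set s := Nat.land (clsPay e) 1023 with hs
  set e0 := Nat.shiftRight (clsPay e) 10 with he0
  obtain ⟨h1, h⟩ := andB_true h
  obtain ⟨h2, h⟩ := andB_true h
  obtain ⟨h3, h⟩ := andB_true h
  obtain ⟨h4, h5⟩ := andB_true h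
  rw [sapp_eq, sapp_eq] at h4 h5
  have he0' : e0 < 1024 := Nat.lt_succ_of_le (Nat.le_of_ble_eq_true h1)
  have hk0 : clsKind e0 = 2 ∨ clsKind e0 = 3 := by
    have := Nat.le_of_ble_eq_true h2
    have := Nat.le_of_ble_eq_true h3
    omega
  have hmem : ∀ c : ℕ, nfG 10 c ∈ SH 10 := fun c => nfE_mem hG 10 c
  have key : nfG 10 s * nfG 10 e0 = nfG 10 e * nfG 10 s := by
    apply eq_of_sigG ((SH 10).mul_mem (hmem _) (hmem _)) ((SH 10).mul_mem (hmem _) (hmem _))
    unfold sigG
    rw [Subgroup.coe_mul, Subgroup.coe_mul, Equiv.Perm.mul_apply, Equiv.Perm.mul_apply,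
      Equiv.Perm.mul_apply, Equiv.Perm.mul_apply, nfG_apply le_rfl, nfG_apply le_rfl,
      nfG_apply le_rfl, nfG_apply le_rfl, nfG_apply le_rfl, nfG_apply le_rfl, nfG_apply le_rfl,
      nfG_apply le_rfl]
    change nfF 10 s (nfF 10 e0 1515) + 4096 * nfF 10 s (nfF 10 e0 1441) =
      nfF 10 e (nfF 10 s 1515) + 4096 * nfF 10 e (nfF 10 s 1441)
    rw [Nat.eq_of_beq_eq_true h4, Nat.eq_of_beq_eq_true h5]
  have key' : nfG 10 e = nfG 10 s * nfG 10 e0 * (nfG 10 s)⁻¹ := by
    rw [key]
    group
  have hconj : ∀ t : ↥HeP, (∃ g : ↥HeP, nfG 10 e0 = g * t * g⁻¹) →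
      ∃ g : ↥HeP, nfG 10 e = g * t * g⁻¹ := by
    rintro t ⟨g, hg⟩
    refine ⟨nfG 10 s * g, ?_⟩
    rw [key', hg]
    group
  rcases hk0 with hk0 | hk0
  · exact Or.inr (Or.inr (Or.inl (hconj bG ((dir_kind he0').1 hk0))))
  · exact Or.inr (Or.inr (Or.inr (hconj zG ((dir_kind he0').2 hk0))))

theorem card_SH10 : Nat.card (SH 10) = 1024 := by
  rw [card_SH le_rfl]
  norm_num

/-- every involution is conjugate to the first or to the fourth letter. -/
theorem invol_class (hc : Nat.card ↥HeP = 4030387200) (y : ↥HeP) (hy : orderOf y = 2) :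
    (∃ g : ↥HeP, g * y * g⁻¹ = bG) ∨ ∃ g : ↥HeP, g * y * g⁻¹ = zG := by
  have : Finite ↥HeP := Nat.finite_of_card_ne_zero (by rw [hc]; norm_num)
  have hfac : (Nat.card ↥HeP).factorization 2 = (Nat.card (SH 10)).factorization 2 := by
    rw [card_SH10, hc]
    have h1 : (4030387200 : ℕ) = 2 ^ 10 * 3935925 := by norm_num
    have h2 : (1024 : ℕ) = 2 ^ 10 * 1 := by norm_num
    rw [h1, h2, Nat.factorization_mul (by norm_num) (by norm_num),
      Nat.factorization_mul (by norm_num) (by norm_num)]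
    simp only [Finsupp.coe_add, Pi.add_apply]
    rw [Nat.factorization_eq_zero_of_not_dvd (n := 3935925) (by norm_num),
      Nat.factorization_eq_zero_of_not_dvd (n := 1) (by norm_num)]
  obtain ⟨g, hg⟩ := Cfsg.Agent.Helper9.J3Z.exists_conj_mem _ hfac y hy
  obtain ⟨e, he, hge⟩ := mem_SH le_rfl hg
  have he' : e < 1024 := by
    have : (2 : ℕ) ^ 10 = 1024 := by norm_num
    omega
  have hyy : y * y = 1 := by
    rw [← pow_two, ← hy]
    exact pow_orderOf_eq_one y
  have hy1 : y ≠ 1 := by
    intro e1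
    rw [e1, orderOf_one] at hy
    omega
  have hconj : ∀ (g' t : ↥HeP), nfG 10 e = g' * t * g'⁻¹ → ∃ k : ↥HeP, k * y * k⁻¹ = t := by
    intro g' t ht
    refine ⟨g'⁻¹ * g, ?_⟩
    have : g'⁻¹ * g * y * (g'⁻¹ * g)⁻¹ = g'⁻¹ * (g * y * g⁻¹) * g' := by group
    rw [this, hge, ht]
    group
  rcases cls_main he' with h0 | h1 | ⟨g', h2⟩ | ⟨g', h3⟩
  · exfalso
    apply hy1
    have h1 : g * y * g⁻¹ = 1 := by
      rw [hge, h0]
      exact nfE_zero hG 10
    have : y = g⁻¹ * (g * y * g⁻¹) * g := by group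
    rw [this, h1]
    group
  · exfalso
    apply h1
    rw [← hge]
    have : g * y * g⁻¹ * (g * y * g⁻¹) = g * (y * y) * g⁻¹ := by group
    rw [this, hyy]
    group
  · exact Or.inl (hconj g' bG h2)
  · exact Or.inr (hconj g' zG h3)

end Cfsg.Agent.Helper9.HeO
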