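import Mathlib
import Cfsg.Agent.Helper9.HeO.Cls

set_option autoImplicit false
set_option Elab.async false

/-! The order of the centralizer of the first letter in the group of Held on 2058 points is
divisible by 161280, and the first letter has at most 24990 conjugates. -/

namespace Cfsg.Agent.Helper9.HeO

open Cfsg.Agent.Helper9.J3 Cfsg.Agent.Helper9.He Cfsg.Agent.Helper9.HeC

/-- the centralizer of the first letter. -/
def CB : Subgroup ↥HeP := Subgroup.centralizer ({bG} : Set ↥HeP)

theorem mem_CB {x : ↥HeP} : x ∈ CB ↔ x * bG = bG * x := Subgroup.mem_centralizer_singleton_iff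

/-- the check that the generators of the subgroup of order 512 commute with the first letter. -/
def commChk (k : ℕ) : Bool :=
  allB (fun x => Nat.beq (sapp (hF k) (tabF 0 x)) (sapp (tabF 0) (hF k x))) nP

set_option maxRecDepth 1000000 in
theorem comm_b : allB commChk 9 = true := by decide +kernel

theorem hG_mem_CB {k : ℕ} (hk : k < 9) : hG k ∈ CB := by
  rw [mem_CB]
  apply Subtype.ext
  apply perm_ext
  intro p
  change ((hG k : Equiv.Perm (Fin nP)) ((bG : Equiv.Perm (Fin nP)) p)).val =
    ((bG : Equiv.Perm (Fin nP)) ((hG k : Equiv.Perm (Fin nP)) p)).val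
  rw [bG_apply, hG_apply (by omega), hG_apply (by omega), bG_apply]
  have h := allB_true (allB_true comm_b hk) p.isLt
  rw [sapp_eq, sapp_eq] at h
  exact Nat.eq_of_beq_eq_true h

theorem SH9_le : SH 9 ≤ CB := by
  unfold SH chainH
  rw [Subgroup.closure_le]
  rintro x ⟨k, hk, rfl⟩
  exact hG_mem_CB hk

theorem dvd_512 : 512 ∣ Nat.card CB := by
  have h := Subgroup.card_dvd_of_le SH9_le
  rw [card_SH (by norm_num)] at h
  norm_num at h
  exact h

/-! ### elements of odd order in the centralizer -/

/-- the check that the later letters commute with the first letter. -/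
def letChk (l : ℕ) : Bool :=
  orB (Nat.ble l 1)
    (allB (fun x => Nat.beq (sapp (tabF 0) (tabF l x)) (sapp (tabF l) (tabF 0 x))) nP)

set_option maxRecDepth 1000000 in
theorem let_b : allB letChk 7 = true := by decide +kernel

theorem P_comm {l : ℕ} (h2 : 2 ≤ l) (h7 : l < 7) : P 0 * P l = P l * P 0 := by
  apply perm_ext
  intro p
  rw [Equiv.Perm.mul_apply, Equiv.Perm.mul_apply, P_apply, P_apply, P_apply, P_apply]
  simp only [tab_of_lt h7, tab_of_lt (show 0 < 7 by norm_num)]
  rcases orB_true (allB_true let_b h7) with h | h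
  · have := Nat.le_of_ble_eq_true h
    omega
  · have h1 := allB_true h p.isLt
    rw [sapp_eq, sapp_eq] at h1
    exact Nat.eq_of_beq_eq_true h1

theorem permW_comm (w : List ℕ) (hw : ∀ l ∈ w, 2 ≤ l ∧ l < 7) : P 0 * permW w = permW w * P 0 := by
  induction w with
  | nil =>
    change P 0 * 1 = 1 * P 0
    rw [mul_one, one_mul]
  | cons a w ih =>
    have ha := hw a List.mem_cons_self
    rw [permW_cons, ← mul_assoc, P_comm ha.1 ha.2, mul_assoc,
      ih (fun l hl => hw l (List.mem_cons_of_mem _ hl)), mul_assoc]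

/-- the element of a word in the later letters, in the centralizer. -/
def cW (w : List ℕ) : ↥HeP := ⟨permW w, permW_mem _⟩

theorem cW_mem (w : List ℕ) (hw : ∀ l ∈ w, 2 ≤ l ∧ l < 7) : cW w ∈ CB := by
  rw [mem_CB]
  exact Subtype.ext (permW_comm w hw).symm

/-- the repeated word. -/
def wpow (w : List ℕ) : ℕ → List ℕ
  | 0 => []
  | n + 1 => w ++ wpow w n

theorem permW_wpow (w : List ℕ) (n : ℕ) : permW (wpow w n) = permW w ^ n := by
  induction n with
  | zero => rfl
  | succ n ih =>
    change permW (w ++ wpow w n) = _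
    rw [permW_append, ih, pow_succ']

theorem wpow_letters {w : List ℕ} (hw : ∀ l ∈ w, l < 7) (n : ℕ) : ∀ l ∈ wpow w n, l < 7 := by
  induction n with
  | zero =>
    intro l hl
    exact absurd hl List.not_mem_nil
  | succ n ih =>
    intro l hl
    change l ∈ w ++ wpow w n at hl
    rcases List.mem_append.mp hl with h | h
    · exact hw l h
    · exact ih l h

/-- the check that a power of a word is the identity and the word is not. -/
def powChk (w : List ℕ) (n q : ℕ) : Bool :=
  andB (okLetters w) (andB (allB (fun x => Nat.beq (evalF (wpow w n) x) x) nP)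
    (andB (Nat.ble q 2057) (notB (Nat.beq (evalF w q) q))))

theorem order_of_powChk {w : List ℕ} {n q : ℕ} (hn : n.Prime) (h : powChk w n q = true) :
    orderOf (cW w) = n := by
  obtain ⟨h1, h⟩ := andB_true h
  obtain ⟨h2, h⟩ := andB_true h
  obtain ⟨h3, h4⟩ := andB_true h
  have hl := okLetters_true h1
  have : Fact n.Prime := ⟨hn⟩
  apply orderOf_eq_prime
  · apply Subtype.ext
    rw [Subgroup.coe_pow]
    change permW w ^ n = 1
    rw [← permW_wpow]
    apply perm_ext
    intro p
    rw [permW_val _ (wpow_letters hl n)]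
    exact Nat.eq_of_beq_eq_true (allB_true h2 p.isLt)
  · intro e
    have hq : q < nP := Nat.lt_succ_of_le (Nat.le_of_ble_eq_true h3)
    have e1 : permW w = 1 := congrArg Subtype.val e
    have e2 := permW_val w hl ⟨q, hq⟩
    rw [e1] at e2
    have h5 := notB_true h4
    change q = evalF w q at e2
    rw [← e2, Nat.beq_refl] at h5
    exact Bool.noConfusion h5

set_option maxRecDepth 1000000 in
theorem pow5_b : powChk [2, 3, 4] 5 1 = true := by decide +kernel

set_option maxRecDepth 1000000 in
theorem pow7_b : powChk [3, 5, 6] 7 0 = true := by decide +kernel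

set_option maxRecDepth 1000000 in
theorem pow3u_b : powChk [3, 4] 3 2 = true := by decide +kernel

set_option maxRecDepth 1000000 in
theorem pow3v_b : powChk [2, 5, 6, 3, 2, 5, 6] 3 0 = true := by decide +kernel

theorem dvd_of_order {w : List ℕ} (hw : ∀ l ∈ w, 2 ≤ l ∧ l < 7) {n : ℕ} (h : orderOf (cW w) = n)
    [Finite ↥HeP] : n ∣ Nat.card CB := by
  have h1 : orderOf (⟨cW w, cW_mem w hw⟩ : ↥CB) = n := by
    rw [← Subgroup.orderOf_coe]
    exact h
  rw [← h1]
  exact orderOf_dvd_natCard _

theorem dvd_5 [Finite ↥HeP] : 5 ∣ Nat.card CB :=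
  dvd_of_order (by decide) (order_of_powChk (by norm_num) pow5_b)

theorem dvd_7 [Finite ↥HeP] : 7 ∣ Nat.card CB :=
  dvd_of_order (by decide) (order_of_powChk (by norm_num) pow7_b)

/-- the word of the first element of order three. -/
def wU : List ℕ := [3, 4]

/-- the word of the second element of order three. -/
def wV : List ℕ := [2, 5, 6, 3, 2, 5, 6]

set_option maxRecDepth 1000000 in
theorem commUV_b : allB (fun x => Nat.beq (evalF (wU ++ wV) x) (evalF (wV ++ wU) x)) nP = true := by
  decide +kernel

/-- the image of a point under a product of powers of the two elements of order three. -/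
def uvF (i j : ℕ) : ℕ := evalF (wpow wU i ++ wpow wV j) 3

theorem uv_inj_b : ∀ i j i' j' : Fin 3, uvF i.val j.val = uvF i'.val j'.val → i = i' ∧ j = j' := by
  decide +kernel

theorem dvd_9 [Finite ↥HeP] : 9 ∣ Nat.card CB := by
  have hU : ∀ l ∈ wU, 2 ≤ l ∧ l < 7 := by decide
  have hV : ∀ l ∈ wV, 2 ≤ l ∧ l < 7 := by decide
  have hU' : ∀ l ∈ wU, l < 7 := fun l hl => (hU l hl).2
  have hV' : ∀ l ∈ wV, l < 7 := fun l hl => (hV l hl).2
  have oU : orderOf (cW wU) = 3 := order_of_powChk (by norm_num) pow3u_b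
  have oV : orderOf (cW wV) = 3 := order_of_powChk (by norm_num) pow3v_b
  apply nine_dvd_card CB (cW wU) (cW wV) (cW_mem wU hU) (cW_mem wV hV)
  · rw [← oU]
    exact pow_orderOf_eq_one _
  · rw [← oV]
    exact pow_orderOf_eq_one _
  · apply Subtype.ext
    change permW wU * permW wV = permW wV * permW wU
    rw [← permW_append, ← permW_append]
    apply perm_ext
    intro p
    have hl1 : ∀ l ∈ wU ++ wV, l < 7 := by decide
    have hl2 : ∀ l ∈ wV ++ wU, l < 7 := by decide
    rw [permW_val _ hl1, permW_val _ hl2]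
    exact Nat.eq_of_beq_eq_true (allB_true commUV_b p.isLt)
  · intro i j i' j' h
    apply uv_inj_b i j i' j'
    have h1 : (cW wU ^ i.val * cW wV ^ j.val : ↥HeP).1 =
        permW (wpow wU i.val ++ wpow wV j.val) := by
      rw [permW_append, permW_wpow, permW_wpow]
      rfl
    have h2 : (cW wU ^ i'.val * cW wV ^ j'.val : ↥HeP).1 =
        permW (wpow wU i'.val ++ wpow wV j'.val) := by
      rw [permW_append, permW_wpow, permW_wpow]
      rfl
    have h3 : permW (wpow wU i.val ++ wpow wV j.val) =
        permW (wpow wU i'.val ++ wpow wV j'.val) := by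
      rw [← h1, ← h2, h]
    have hl : ∀ (a b : ℕ), ∀ l ∈ wpow wU a ++ wpow wV b, l < 7 := by
      intro a b l hl
      rcases List.mem_append.mp hl with h | h
      · exact wpow_letters hU' a l h
      · exact wpow_letters hV' b l h
    have h4 : (permW (wpow wU i.val ++ wpow wV j.val) (⟨3, by norm_num⟩ : Fin nP)).val =
        (permW (wpow wU i'.val ++ wpow wV j'.val) (⟨3, by norm_num⟩ : Fin nP)).val := by
      rw [h3]
    rw [permW_val _ (hl _ _), permW_val _ (hl _ _)] at h4
    exact h4

/-- the order of the centralizer of the first letter is divisible by 161280. -/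
theorem dvd_card_CB [Finite ↥HeP] : 161280 ∣ Nat.card CB := by
  have h1 : 512 * 9 ∣ Nat.card CB :=
    Nat.Coprime.mul_dvd_of_dvd_of_dvd (by norm_num) dvd_512 dvd_9
  have h2 : 512 * 9 * 5 ∣ Nat.card CB :=
    Nat.Coprime.mul_dvd_of_dvd_of_dvd (by norm_num) h1 dvd_5
  have h3 : 512 * 9 * 5 * 7 ∣ Nat.card CB :=
    Nat.Coprime.mul_dvd_of_dvd_of_dvd (by norm_num) h2 dvd_7
  norm_num at h3
  exact h3

/-- the first letter has at most 24990 conjugates. -/
theorem card_class_le (hc : Nat.card ↥HeP = 4030387200) :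
    {y : ↥HeP | ∃ g : ↥HeP, g * bG * g⁻¹ = y}.ncard ≤ 24990 := by
  have : Finite ↥HeP := Nat.finite_of_card_ne_zero (by rw [hc]; norm_num)
  have h1 := card_class_mul bG
  rw [hc] at h1
  obtain ⟨k, hk⟩ := dvd_card_CB
  change Nat.card CB * _ = _ at h1
  rw [hk] at h1
  have hk0 : 0 < k := by
    rcases Nat.eq_zero_or_pos k with h0 | h0
    · rw [h0] at h1
      norm_num at h1
    · exact h0
  have h2 : 161280 * (k * {y : ↥HeP | ∃ g : ↥HeP, g * bG * g⁻¹ = y}.ncard) = 161280 * 24990 := by
    rw [← mul_assoc, h1]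
  have h3 := Nat.eq_of_mul_eq_mul_left (by norm_num) h2
  calc {y : ↥HeP | ∃ g : ↥HeP, g * bG * g⁻¹ = y}.ncard
      ≤ k * {y : ↥HeP | ∃ g : ↥HeP, g * bG * g⁻¹ = y}.ncard := Nat.le_mul_of_pos_left _ hk0
    _ = 24990 := h3

/-- the centralizer of the first letter has at least 161280 elements. -/
theorem card_CB_ge [Finite ↥HeP] : 161280 ≤ Nat.card CB :=
  Nat.le_of_dvd Nat.card_pos dvd_card_CB

end Cfsg.Agent.Helper9.HeO
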