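import Mathlib
import Cfsg.Agent.Helper9.HeO.Cent

set_option autoImplicit false
set_option Elab.async false

/-! The list of the 24990 conjugates of the first letter in the group of Held on 2058 points: each
is conjugate under a power of the element of order seventeen to one of 1470 representatives. -/

namespace Cfsg.Agent.Helper9.HeO

open Cfsg.Agent.Helper9.J3 Cfsg.Agent.Helper9.He Cfsg.Agent.Helper9.HeC

/-- the code of a representative. -/
def repc (j : ℕ) : ℕ := lkF 24 16777215 repD j

/-- a digit of the code of a representative. -/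
def digC (c k : ℕ) : ℕ := Nat.land (Nat.shiftRight c (Nat.add 3 (Nat.mul 5 k))) 31

/-- the image of a point under the representative with the first digits of a code. -/
def repFn (c n p : ℕ) : ℕ :=
  Nat.rec (motive := fun _ => ℕ → ℕ) (fun p => tabF 0 p)
    (fun k ih p => tabF 0 (aF (Nat.sub 17 (digC c k)) (ih (aF (digC c k) (tabF 0 p))))) n p

theorem repFn_succ (c n p : ℕ) : repFn c (n + 1) p =
    tabF 0 (aF (Nat.sub 17 (digC c n)) (repFn c n (aF (digC c n) (tabF 0 p)))) := rfl

/-- the representative with the first digits of a code. -/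
def repEn (c n : ℕ) : ↥HeP :=
  Nat.rec bG (fun k ih => bG * (aG ^ digC c k)⁻¹ * ih * aG ^ digC c k * bG) n

theorem repEn_succ (c n : ℕ) : repEn c (n + 1) =
    bG * (aG ^ digC c n)⁻¹ * repEn c n * aG ^ digC c n * bG := rfl

/-- the image of a point under the representative of a code. -/
def repF (c p : ℕ) : ℕ := repFn c (Nat.land c 7) p

/-- the representative of a code. -/
def repE (c : ℕ) : ↥HeP := repEn c (Nat.land c 7)

/-- the check of the digits of a code. -/
def digOk (c : ℕ) : Bool := allB (fun k => Nat.ble (digC c k) 17) (Nat.land c 7)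

theorem repEn_apply (c n : ℕ) (h : ∀ k, k < n → digC c k ≤ 17) (p : Fin nP) :
    ((repEn c n : Equiv.Perm (Fin nP)) p).val = repFn c n p.val := by
  induction n generalizing p with
  | zero => exact bG_apply p
  | succ n ih =>
    have hd : digC c n ≤ 17 := h n (Nat.lt_succ_self n)
    have ih' := ih (fun k hk => h k (Nat.lt_succ_of_lt hk))
    rw [repEn_succ, repFn_succ, Subgroup.coe_mul, Subgroup.coe_mul, Subgroup.coe_mul,
      Subgroup.coe_mul, Equiv.Perm.mul_apply, Equiv.Perm.mul_apply, Equiv.Perm.mul_apply,
      Equiv.Perm.mul_apply, bG_apply, aG_pow_inv_apply hd, ih', aG_pow_apply _ hd, bG_apply]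
    rfl

theorem repE_apply {c : ℕ} (h : digOk c = true) (p : Fin nP) :
    ((repE c : Equiv.Perm (Fin nP)) p).val = repF c p.val :=
  repEn_apply c _ (fun _ hk => Nat.le_of_ble_eq_true (allB_true h hk)) p

theorem repEn_conj (c n : ℕ) : ∃ g : ↥HeP, g * bG * g⁻¹ = repEn c n := by
  induction n with
  | zero => exact ⟨1, by rw [one_mul, inv_one, mul_one]; rfl⟩
  | succ n ih =>
    obtain ⟨g, hg⟩ := ih
    refine ⟨bG * (aG ^ digC c n)⁻¹ * g, ?_⟩
    rw [repEn_succ, ← hg]
    have hb : bG⁻¹ = bG := bG_inv
    calc bG * (aG ^ digC c n)⁻¹ * g * bG * (bG * (aG ^ digC c n)⁻¹ * g)⁻¹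
        = bG * (aG ^ digC c n)⁻¹ * (g * bG * g⁻¹) * aG ^ digC c n * bG⁻¹ := by group
      _ = _ := by rw [hb]

/-- the image of a point under the conjugate of a representative by a power of the element of
order seventeen. -/
def yF (j i p : ℕ) : ℕ := aF (Nat.sub 17 i) (sapp (repF (repc j)) (aF i p))

/-- the signature of a conjugate. -/
def sigOf (j i : ℕ) : ℕ :=
  Nat.add (yF j i 550) (Nat.mul 4096 (Nat.add (yF j i 1610)
    (Nat.mul 4096 (Nat.add (yF j i 1045) (Nat.mul 4096 (yF j i 405))))))

/-- the entry of the sorted list. -/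
def ent (k : ℕ) : ℕ := lkF 16 65535 lstD k

/-- the number of the representative of an entry. -/
def entJ (k : ℕ) : ℕ := Nat.shiftRight (ent k) 5

/-- the exponent of an entry. -/
def entI (k : ℕ) : ℕ := Nat.land (ent k) 31

/-- the signature of an entry. -/
def sigK (k : ℕ) : ℕ := sapp (fun e => sigOf (Nat.shiftRight e 5) (Nat.land e 31)) (ent k)

theorem sigK_eq (k : ℕ) : sigK k = sigOf (entJ k) (entI k) := sapp_eq _ _

/-- the check that the signatures increase. -/
def stepChk (k : ℕ) : Bool :=
  orB (Nat.ble 24989 k) (Nat.ble (Nat.succ (sigK k)) (sigK (Nat.succ k)))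

/-- the check of the range of the entries. -/
def rngChk (k : ℕ) : Bool := andB (Nat.ble (Nat.succ (entJ k)) 1470) (Nat.ble (entI k) 17)

set_option maxRecDepth 1000000 in
theorem rng_b : allB rngChk 24990 = true := by decide +kernel

set_option maxRecDepth 1000000 in
theorem dig_b : allB (fun j => digOk (repc j)) 1470 = true := by decide +kernel

set_option maxRecDepth 1000000 in
theorem step_0 : allC stepChk 0 1785 = true := by decide +kernel

set_option maxRecDepth 1000000 in
theorem step_1 : allC stepChk 1 1785 = true := by decide +kernel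

set_option maxRecDepth 1000000 in
theorem step_2 : allC stepChk 2 1785 = true := by decide +kernel

set_option maxRecDepth 1000000 in
theorem step_3 : allC stepChk 3 1785 = true := by decide +kernel

set_option maxRecDepth 1000000 in
theorem step_4 : allC stepChk 4 1785 = true := by decide +kernel

set_option maxRecDepth 1000000 in
theorem step_5 : allC stepChk 5 1785 = true := by decide +kernel

set_option maxRecDepth 1000000 in
theorem step_6 : allC stepChk 6 1785 = true := by decide +kernel

set_option maxRecDepth 1000000 in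
theorem step_7 : allC stepChk 7 1785 = true := by decide +kernel

set_option maxRecDepth 1000000 in
theorem step_8 : allC stepChk 8 1785 = true := by decide +kernel

set_option maxRecDepth 1000000 in
theorem step_9 : allC stepChk 9 1785 = true := by decide +kernel

set_option maxRecDepth 1000000 in
theorem step_10 : allC stepChk 10 1785 = true := by decide +kernel

set_option maxRecDepth 1000000 in
theorem step_11 : allC stepChk 11 1785 = true := by decide +kernel

set_option maxRecDepth 1000000 in
theorem step_12 : allC stepChk 12 1785 = true := by decide +kernel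

set_option maxRecDepth 1000000 in
theorem step_13 : allC stepChk 13 1785 = true := by decide +kernel

theorem step_all {k : ℕ} (hk : k < 24989) : sigK k < sigK (k + 1) := by
  have h : stepChk k = true := by
    refine allC_true (K := 14) (c := 1785) ?_ (by omega)
    intro i hi
    interval_cases i
    · exact step_0
    · exact step_1
    · exact step_2
    · exact step_3
    · exact step_4
    · exact step_5
    · exact step_6
    · exact step_7
    · exact step_8
    · exact step_9
    · exact step_10
    · exact step_11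
    · exact step_12
    · exact step_13
  rcases orB_true h with h1 | h1
  · have := Nat.le_of_ble_eq_true h1
    omega
  · exact Nat.lt_of_succ_le (Nat.le_of_ble_eq_true h1)

theorem entJ_lt {k : ℕ} (hk : k < 24990) : entJ k < 1470 :=
  Nat.lt_of_succ_le (Nat.le_of_ble_eq_true (andB_true (allB_true rng_b hk)).1)

theorem entI_le {k : ℕ} (hk : k < 24990) : entI k ≤ 17 :=
  Nat.le_of_ble_eq_true (andB_true (allB_true rng_b hk)).2

theorem digOk_repc {j : ℕ} (hj : j < 1470) : digOk (repc j) = true := allB_true dig_b hj

/-! ### the elements -/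

/-- the representative. -/
def repG (j : ℕ) : ↥HeP := repE (repc j)

/-- the conjugate of a representative by a power of the element of order seventeen. -/
def yG (j i : ℕ) : ↥HeP := (aG ^ i)⁻¹ * repG j * aG ^ i

theorem repG_apply {j : ℕ} (hj : j < 1470) (p : Fin nP) :
    ((repG j : Equiv.Perm (Fin nP)) p).val = repF (repc j) p.val :=
  repE_apply (digOk_repc hj) p

theorem yG_apply {j i : ℕ} (hj : j < 1470) (hi : i ≤ 17) (p : Fin nP) :
    ((yG j i : Equiv.Perm (Fin nP)) p).val = yF j i p.val := by
  unfold yG yF
  rw [Subgroup.coe_mul, Subgroup.coe_mul, Equiv.Perm.mul_apply, Equiv.Perm.mul_apply,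
    aG_pow_inv_apply hi, repG_apply hj, aG_pow_apply _ hi, sapp_eq]
  rfl

theorem repG_conj (j : ℕ) : ∃ g : ↥HeP, g * bG * g⁻¹ = repG j := repEn_conj _ _

theorem yG_conj (j i : ℕ) : ∃ g : ↥HeP, g * bG * g⁻¹ = yG j i := by
  obtain ⟨g, hg⟩ := repG_conj j
  refine ⟨(aG ^ i)⁻¹ * g, ?_⟩
  unfold yG
  rw [← hg]
  group

theorem sig_yG {j i : ℕ} (hj : j < 1470) (hi : i ≤ 17) : sigOf j i =
    ((yG j i : Equiv.Perm (Fin nP)) (⟨550, by norm_num⟩ : Fin nP)).val +
      4096 * (((yG j i : Equiv.Perm (Fin nP)) (⟨1610, by norm_num⟩ : Fin nP)).val +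
        4096 * (((yG j i : Equiv.Perm (Fin nP)) (⟨1045, by norm_num⟩ : Fin nP)).val +
          4096 * ((yG j i : Equiv.Perm (Fin nP)) (⟨405, by norm_num⟩ : Fin nP)).val)) := by
  rw [yG_apply hj hi, yG_apply hj hi, yG_apply hj hi, yG_apply hj hi]
  rfl

/-- the conjugate of an entry of the list. -/
def yK (k : ℕ) : ↥HeP := yG (entJ k) (entI k)

theorem yK_inj {k k' : ℕ} (hk : k < 24990) (hk' : k' < 24990) (h : yK k = yK k') : k = k' := by
  apply inj_of_step (f := sigK) (m := 24990) ?_ hk hk'
  · rw [sigK_eq, sigK_eq, sig_yG (entJ_lt hk) (entI_le hk), sig_yG (entJ_lt hk') (entI_le hk')]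
    unfold yK at h
    rw [h]
  · intro j hj
    exact step_all (by omega)

/-- every conjugate of the first letter is in the list. -/
theorem exists_entry (hc : Nat.card ↥HeP = 4030387200) (y : ↥HeP)
    (hy : ∃ g : ↥HeP, g * bG * g⁻¹ = y) : ∃ k, k < 24990 ∧ y = yK k := by
  have : Finite ↥HeP := Nat.finite_of_card_ne_zero (by rw [hc]; norm_num)
  let f : Fin 24990 → {y : ↥HeP // ∃ g : ↥HeP, g * bG * g⁻¹ = y} :=
    fun k => ⟨yK k.val, yG_conj _ _⟩
  have hf : Function.Injective f := by
    intro k k' h
    exact Fin.ext (yK_inj k.isLt k'.isLt (congrArg Subtype.val h))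
  have hb : Function.Bijective f := by
    apply Function.Injective.bijective_of_nat_card_le hf
    rw [Nat.card_fin]
    have h3 : Nat.card {y : ↥HeP // ∃ g : ↥HeP, g * bG * g⁻¹ = y} =
        {y : ↥HeP | ∃ g : ↥HeP, g * bG * g⁻¹ = y}.ncard := rfl
    rw [h3]
    exact card_class_le hc
  obtain ⟨k, hk⟩ := hb.2 ⟨y, hy⟩
  exact ⟨k.val, k.isLt, (congrArg Subtype.val hk).symm⟩

/-- every conjugate of the first letter is conjugate under a power of the element of order
seventeen to a representative. -/
theorem exists_rep (hc : Nat.card ↥HeP = 4030387200) (y : ↥HeP)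
    (hy : ∃ g : ↥HeP, g * bG * g⁻¹ = y) :
    ∃ i : ℕ, ∃ j, j < 1470 ∧ aG ^ i * y * (aG ^ i)⁻¹ = repG j := by
  obtain ⟨k, hk, rfl⟩ := exists_entry hc y hy
  refine ⟨entI k, entJ k, entJ_lt hk, ?_⟩
  unfold yK yG
  group

end Cfsg.Agent.Helper9.HeO
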