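import Mathlib
import Cfsg.Prelude
import Cfsg.Agent.Helper9.HeO.Norm
import Cfsg.Agent.Helper9.HeC.Main
import Cfsg.Agent.Helper9.Out.OutLemma2

set_option autoImplicit false
set_option Elab.async false

/-! The outer automorphism group of the group of Held on 2058 points has two elements. -/

namespace Cfsg.Agent.Helper9.HeO

open Cfsg.Agent.Helper9.J3 Cfsg.Agent.Helper9.He Cfsg.Agent.Helper9.HeC Cfsg.Agent.Helper9.OutL
open Cfsg Cfsg.Spor

/-- the relations of the element of order seventeen and the first letter. -/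
def relsL : List (List Bool × ℕ) :=
  [([true, false], 21), ([true, true, false], 17), ([true, true, true, false], 8),
    ([true, true, true, true, false], 7)]

/-- the exponents of the relations. -/
def relO : List ℕ := [21, 17, 8, 7]

/-- the image of a point under a power. -/
def powF (f : ℕ → ℕ) (e p : ℕ) : ℕ := Nat.rec p (fun _ acc => f acc) e

theorem pow_apply_val {σ : Equiv.Perm (Fin nP)} {f : ℕ → ℕ}
    (hf : ∀ p : Fin nP, (σ p).val = f p.val) (e : ℕ) (p : Fin nP) :
    ((σ ^ e) p).val = powF f e p.val := by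
  induction e with
  | zero => rfl
  | succ e ih =>
    rw [pow_succ', Equiv.Perm.mul_apply, hf, ih]
    rfl

theorem evalW_1 {X : Type*} [Monoid X] (a y : X) : evalW [true, false] a y = a ^ 1 * y := by
  unfold evalW
  simp

theorem evalW_2 {X : Type*} [Monoid X] (a y : X) : evalW [true, true, false] a y = a ^ 2 * y := by
  unfold evalW
  simp [pow_succ, mul_assoc]

theorem evalW_3 {X : Type*} [Monoid X] (a y : X) :
    evalW [true, true, true, false] a y = a ^ 3 * y := by
  unfold evalW
  simp [pow_succ, mul_assoc]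

theorem evalW_4 {X : Type*} [Monoid X] (a y : X) :
    evalW [true, true, true, true, false] a y = a ^ 4 * y := by
  unfold evalW
  simp [pow_succ, mul_assoc]

/-- the image of a point under the product of a power of the element of order seventeen and
a second element. -/
def sylF (k : ℕ) (g : ℕ → ℕ) (x : ℕ) : ℕ := aF k (g x)

theorem syl_apply {k : ℕ} (hk : k ≤ 17) {y : ↥HeP} {g : ℕ → ℕ}
    (hg : ∀ p : Fin nP, ((y : Equiv.Perm (Fin nP)) p).val = g p.val) (p : Fin nP) :
    (((aG ^ k * y : ↥HeP) : Equiv.Perm (Fin nP)) p).val = sylF k g p.val := by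
  rw [Subgroup.coe_mul, Equiv.Perm.mul_apply, aG_pow_apply k hk, hg]
  rfl

/-- a relation in terms of the images of the points. -/
theorem rel_pointwise {k : ℕ} (hk : k ≤ 17) {y : ↥HeP} {g : ℕ → ℕ}
    (hg : ∀ p : Fin nP, ((y : Equiv.Perm (Fin nP)) p).val = g p.val) (o : ℕ)
    (h : (aG ^ k * y) ^ o = 1) (p : Fin nP) : powF (sylF k g) o p.val = p.val := by
  have h1 := pow_apply_val (σ := ((aG ^ k * y : ↥HeP) : Equiv.Perm (Fin nP))) (syl_apply hk hg) o p
  rw [← Subgroup.coe_pow, h] at h1
  exact h1.symm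

theorem rel_of_pointwise {k : ℕ} (hk : k ≤ 17) {y : ↥HeP} {g : ℕ → ℕ}
    (hg : ∀ p : Fin nP, ((y : Equiv.Perm (Fin nP)) p).val = g p.val) (o : ℕ)
    (h : allB (fun x => Nat.beq (powF (sylF k g) o x) x) nP = true) : (aG ^ k * y) ^ o = 1 := by
  apply Subtype.ext
  apply perm_ext
  intro p
  rw [Subgroup.coe_pow, pow_apply_val (syl_apply hk hg) o p]
  exact Nat.eq_of_beq_eq_true (allB_true h p.isLt)

set_option maxRecDepth 1000000 in
theorem hrel1_b : allB (fun x => Nat.beq (powF (sylF 1 (tabF 0)) 21 x) x) nP = true := by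
  decide +kernel

set_option maxRecDepth 1000000 in
theorem hrel2_b : allB (fun x => Nat.beq (powF (sylF 2 (tabF 0)) 17 x) x) nP = true := by
  decide +kernel

set_option maxRecDepth 1000000 in
theorem hrel3_b : allB (fun x => Nat.beq (powF (sylF 3 (tabF 0)) 8 x) x) nP = true := by
  decide +kernel

set_option maxRecDepth 1000000 in
theorem hrel4_b : allB (fun x => Nat.beq (powF (sylF 4 (tabF 0)) 7 x) x) nP = true := by
  decide +kernel

/-- the relations hold for the element of order seventeen and the first letter. -/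
theorem hrels : ∀ e ∈ relsL, evalW e.1 aG bG ^ e.2 = 1 := by
  intro e he
  have he' : e = ([true, false], 21) ∨ e = ([true, true, false], 17) ∨
      e = ([true, true, true, false], 8) ∨ e = ([true, true, true, true, false], 7) := by
    unfold relsL at he
    simpa using he
  rcases he' with rfl | rfl | rfl | rfl
  · rw [evalW_1]
    exact rel_of_pointwise (by norm_num) bG_apply 21 hrel1_b
  · rw [evalW_2]
    exact rel_of_pointwise (by norm_num) bG_apply 17 hrel2_b
  · rw [evalW_3]
    exact rel_of_pointwise (by norm_num) bG_apply 8 hrel3_b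
  · rw [evalW_4]
    exact rel_of_pointwise (by norm_num) bG_apply 7 hrel4_b

/-- the entry of the witnesses of the failing relations. -/
def tst (j : ℕ) : ℕ := lkF 16 65535 tstD j

/-- the check that a representative other than the first letter fails a relation. -/
def testChk (j : ℕ) : Bool :=
  orB (Nat.beq j 0) (sapp (fun t => sapp (fun r => sapp (fun pt =>
    andB (Nat.ble r 3) (andB (Nat.ble pt 2057)
      (notB (Nat.beq (powF (sylF (Nat.succ r) (repF (repc j))) (nthL relO r) pt) pt))))
    (Nat.shiftRight t 2)) (Nat.land t 3)) (tst j))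

set_option maxRecDepth 1000000 in
theorem test_b : allB testChk 1470 = true := by decide +kernel

/-- the representatives of the conjugates of the first letter. -/
def Cand : Set ↥HeP := {g | ∃ j, j < 1470 ∧ g = repG j}

theorem repG_zero : repG 0 = bG := by
  have h0 : repc 0 = 0 := by decide +kernel
  unfold repG
  rw [h0]
  rfl

theorem htest : ∀ b' ∈ Cand, (∀ e ∈ relsL, evalW e.1 aG b' ^ e.2 = 1) →
    ∃ i : ℕ, b' = aG ^ i * bG * (aG ^ i)⁻¹ := by
  rintro b' ⟨j, hj, rfl⟩ hr
  rcases orB_true (allB_true test_b hj) with h0 | h1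
  · refine ⟨0, ?_⟩
    rw [Nat.eq_of_beq_eq_true h0, repG_zero, pow_zero, _root_.one_mul, _root_.inv_one, _root_.mul_one]
  · exfalso
    rw [sapp_eq, sapp_eq, sapp_eq] at h1
    obtain ⟨hr3, h1⟩ := andB_true h1
    obtain ⟨hpt, h1⟩ := andB_true h1
    have hr3' := Nat.le_of_ble_eq_true hr3
    have hpt' : Nat.shiftRight (tst j) 2 < nP := Nat.lt_succ_of_le (Nat.le_of_ble_eq_true hpt)
    have h2 := notB_true h1
    have key : ∀ (k o : ℕ), k ≤ 17 → (aG ^ k * repG j) ^ o = 1 →
        powF (sylF k (repF (repc j))) o (Nat.shiftRight (tst j) 2) = Nat.shiftRight (tst j) 2 :=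
      fun k o hk h => rel_pointwise hk (repG_apply hj) o h ⟨_, hpt'⟩
    have hm : ∀ e : List Bool × ℕ, e ∈ relsL → evalW e.1 aG (repG j) ^ e.2 = 1 := hr
    have e1 := hm ([true, false], 21) (by unfold relsL; simp)
    have e2 := hm ([true, true, false], 17) (by unfold relsL; simp)
    have e3 := hm ([true, true, true, false], 8) (by unfold relsL; simp)
    have e4 := hm ([true, true, true, true, false], 7) (by unfold relsL; simp)
    rw [evalW_1] at e1
    rw [evalW_2] at e2
    rw [evalW_3] at e3
    rw [evalW_4] at e4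
    generalize hrv : Nat.land (tst j) 3 = r at hr3' h2
    interval_cases r
    · rw [show nthL relO 0 = 21 from rfl, key 1 21 (by norm_num) e1, Nat.beq_refl] at h2
      exact Bool.noConfusion h2
    · rw [show nthL relO 1 = 17 from rfl, key 2 17 (by norm_num) e2, Nat.beq_refl] at h2
      exact Bool.noConfusion h2
    · rw [show nthL relO 2 = 8 from rfl, key 3 8 (by norm_num) e3, Nat.beq_refl] at h2
      exact Bool.noConfusion h2
    · rw [show nthL relO 3 = 7 from rfl, key 4 7 (by norm_num) e4, Nat.beq_refl] at h2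
      exact Bool.noConfusion h2

theorem card_HeP (h : IsHe He) : Nat.card ↥HeP = 4030387200 := (isHe_HeP h).2

theorem hCand (h : IsHe He) (β : MulAut ↥HeP) :
    ∃ i : ℕ, aG ^ i * β bG * (aG ^ i)⁻¹ ∈ Cand := by
  have hc := card_HeP h
  have : Finite ↥HeP := Nat.finite_of_card_ne_zero (by rw [hc]; norm_num)
  have h2 : orderOf (β bG) = 2 := by
    rw [MulEquiv.orderOf_eq]
    exact order_bG
  have hconj : ∃ g : ↥HeP, g * bG * g⁻¹ = β bG := by
    rcases invol_class hc (β bG) h2 with ⟨g, hg⟩ | ⟨g, hg⟩
    · refine ⟨g⁻¹, ?_⟩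
      have e1 : g⁻¹ * (g * β bG * g⁻¹) * g⁻¹⁻¹ = β bG := by group
      rw [hg] at e1
      exact e1
    · exfalso
      have h3 : Nat.card (Subgroup.centralizer ({zG} : Set ↥HeP)) =
          Nat.card (Subgroup.centralizer ({bG} : Set ↥HeP)) := by
        rw [← hg, card_centralizer_conj, card_centralizer_aut]
      have h4 : Nat.card (Subgroup.centralizer ({zG} : Set ↥HeP)) ≤ 21504 := card_cent_le h
      have h5 : 161280 ≤ Nat.card (Subgroup.centralizer ({bG} : Set ↥HeP)) := card_CB_ge
      omega
  obtain ⟨i, j, hj, e⟩ := exists_rep hc _ hconj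
  exact ⟨i, j, hj, e⟩

theorem hK0aux : ∀ k < 17, 0 < k → ∃ j < 8, ∃ k0 ∈ [1, 6], (k * 8 ^ j) % 17 = k0 % 17 := by
  decide

theorem hK0 : ∀ k, 0 < k → k < 17 → ∃ j : ℕ, ∃ k0 ∈ [1, 6], (k * 8 ^ j) % 17 = k0 % 17 := by
  intro k h0 h17
  obtain ⟨j, -, h⟩ := hK0aux k h17 h0
  exact ⟨j, h⟩

/-- the outer automorphism group has two elements. -/
theorem out_card (h : IsHe He) : Nat.card (Cfsg.Out ↥HeP) = 2 := by
  have hc := card_HeP h
  have : Finite ↥HeP := Nat.finite_of_card_ne_zero (by rw [hc]; norm_num)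
  have : Fact (Nat.Prime 17) := ⟨by norm_num⟩
  have hnd : ¬ 17 ^ 2 ∣ Nat.card ↥HeP := by
    rw [hc]
    decide
  apply card_out_eq_two tau (tau_not_inner hc)
  intro α
  exact inner_or_tau 17 aG bG nG 8 closure_aG_bG order_aG hnd conj_nG tau 3 6
    tau_aG (by norm_num) hK0 Cand (hCand h) relsL hrels htest α

/-- the outer automorphism group of the presented group of Held has two elements. -/
theorem out_card_He (h : IsHe He) : Nat.card (Cfsg.Out He) = 2 := by
  obtain ⟨e⟩ := HeP_iso h.1
  rw [card_out_congr e]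
  exact out_card h

end Cfsg.Agent.Helper9.HeO
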